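/- S1927: `FF.GNQ` is defined in `Grp.lean`. -/
import Cfsg.Agent.Lib.NQ.Grp
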