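import Cfsg.Agent.Lib.NQ.Brg
import Cfsg.Agent.Lib.NQ.Red

/-! The closure lemma for nearly quadratic subgroups in a group. -/

set_option autoImplicit false
set_option linter.unusedSectionVars false
set_option linter.style.haveILetI false

namespace Cfsg.Agent.Lib.FF

open Subgroup Cfsg.Agent.Lib.Core Cfsg.Agent.FT Cfsg.Agent.Lib.Glaub Cfsg.Agent.Lib.ZJ

universe u

variable {G : Type u} [Group G] [Finite G] {H S T U V Y : Subgroup G}

theorem Md.nqfree_iff [V.Normal] {h : V ≤ 𝐂(V)} (hU : U ≤ V) (hT : IsPGroup 2 T) :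
    NQfree (Md.sub h U) T ↔ GQF U T := by
  rw [← Md.gqf_iff (h := h) hU]
  exact ⟨fun e B hB A Z e0 e3 => e B hB (hT.to_le hB) A Z ⟨e0, e3⟩,
    fun e B hB _ A Z e' => e B hB A Z e'.toNQ0 e'.n3⟩

theorem GCl.qf (e : GCl H U Y) (hs : ¬ IsSec (Equiv.Perm (Fin 4)) G) (hY : Y ≤ 𝐂(Y))
    (h2 : ∀ y ∈ Y, y * y = 1) (hS : IsSyl 2 S H) (hU : S ≤ 𝐍(U)) (nf : GNF U S) (qf : GQF U S) :
    GQF Y S := by
  have a1 : Y ≤ 𝐍(Y) := le_normalizer
  have a2 := e.le.trans a1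
  have a3 := hS.le.trans e.inv
  haveI : (Y.subgroupOf 𝐍(Y)).Normal := normal_in_normalizer
  have hY' := sub_le_cent a1 a1 hY
  have h2' : ∀ y ∈ Y.subgroupOf 𝐍(Y), y * y = 1 := fun y hy => Subtype.ext (h2 y hy)
  have l : U.subgroupOf 𝐍(Y) ≤ Y.subgroupOf 𝐍(Y) := comap_mono e.le
  have hs' : ¬ IsSec (Equiv.Perm (Fin 4)) 𝐍(Y) := fun s => hs (s.trans (IsSec.subgroup _))
  have hS' := hS.subgroupOf e.inv
  rw [← gqf_sub a1 a3, ← Md.nqfree_iff (h := hY') le_rfl hS'.isPGroup, Md.sub_self]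
  exact ((e.subgroupOf e.inv a1).cl.nqfree (Md.two h2')
    (Md.noS4 (fun v hv => by rw [pow_two, h2' v hv]) hs') hs' hS'
    ((Md.st_sub l).symm ▸ sub_le_norm a2 a3 hU) ((Md.nf_iff l).2 ((gnf_sub a2 a3).2 nf))
    ((Md.nqfree_iff l hS'.isPGroup).2 ((gqf_sub a2 a3).2 qf))).mono hS'.le

end Cfsg.Agent.Lib.FF
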